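import Mathlib
import Groth.Agent.S4525
import Groth.Agent.S2680

/-!
# Fibres of the module of differentials

Helper library (no milestone statements here).
-/

universe u

open TensorProduct

namespace Misc3Sm

/-- The fibre dimension of a finite module goes up under specialization. -/
theorem finrank_fibre_le {A : Type u} [CommRing A] (M : Type u) [AddCommGroup M] [Module A M]
    [Module.Finite A M] (q P : Ideal A) [q.IsPrime] [P.IsPrime] (h : q ≤ P) :
    Module.finrank q.ResidueField (q.ResidueField ⊗[A] M) ≤
      Module.finrank P.ResidueField (P.ResidueField ⊗[A] M) := by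
  classical
  let S : Set (P.ResidueField ⊗[A] M) := Set.range fun m : M => (1 : P.ResidueField) ⊗ₜ[A] m
  have hS : Submodule.span P.ResidueField S = ⊤ := by
    rw [eq_top_iff]
    intro x _
    induction x using TensorProduct.induction_on with
    | zero => exact zero_mem _
    | tmul c m =>
      rw [show c ⊗ₜ[A] m = c • ((1 : P.ResidueField) ⊗ₜ[A] m) by rw [TensorProduct.smul_tmul', smul_eq_mul, mul_one]]
      exact Submodule.smul_mem _ _ (Submodule.subset_span ⟨m, rfl⟩)
    | add x y hx hy => exact add_mem (hx trivial) (hy trivial)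
  obtain ⟨b, hbS, hbspan, hbli⟩ := exists_linearIndependent P.ResidueField S
  rw [hS] at hbspan
  haveI : Fintype b := @Fintype.ofFinite _ hbli.finite
  have hcard : Fintype.card b = Module.finrank P.ResidueField (P.ResidueField ⊗[A] M) := by
    rw [← Set.toFinset_card, ← finrank_span_set_eq_card hbli, hbspan, finrank_top]
  choose m hm using fun x : b => hbS x.2
  let U : Submodule A M := Submodule.span A (Set.range m)
  have hsub : Subsingleton (P.ResidueField ⊗[A] (M ⧸ U)) := by
    refine subsingleton_of_forall_eq 0 fun y => ?_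
    obtain ⟨z, rfl⟩ := LinearMap.lTensor_surjective P.ResidueField U.mkQ_surjective y
    have hz : z ∈ Submodule.span P.ResidueField b := hbspan ▸ Submodule.mem_top
    show U.mkQ.baseChange P.ResidueField z = 0
    induction hz using Submodule.span_induction with
    | mem x hx =>
      rw [show x = (1 : P.ResidueField) ⊗ₜ[A] m ⟨x, hx⟩ from (hm ⟨x, hx⟩).symm, LinearMap.baseChange_tmul,
        Submodule.mkQ_apply, (Submodule.Quotient.mk_eq_zero U).2 (Submodule.subset_span (Set.mem_range_self _)), tmul_zero]
    | zero => exact map_zero _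
    | add x y _ _ hx hy => rw [map_add, hx, hy, add_zero]
    | smul c x _ hx => rw [map_smul, hx, smul_zero]
  have hP : (⟨P, ‹_›⟩ : PrimeSpectrum A) ∉ Module.support A (M ⧸ U) := fun hmem =>
    haveI := hsub
    not_nontrivial (P.ResidueField ⊗[A] (M ⧸ U))
      ((Module.mem_support_iff_nontrivial_residueField_tensorProduct _).1 hmem)
  rw [Module.support_eq_zeroLocus, PrimeSpectrum.mem_zeroLocus, SetLike.coe_subset_coe, SetLike.not_le_iff_exists] at hP
  obtain ⟨s, hs, hsP⟩ := hP
  have hsq : algebraMap A q.ResidueField s ≠ 0 := fun h0 =>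
    hsP (h (Ideal.algebraMap_residueField_eq_zero.1 h0))
  have hspan : Submodule.span q.ResidueField (Set.range fun x : b => (1 : q.ResidueField) ⊗ₜ[A] m x) = ⊤ := by
    rw [eq_top_iff]
    intro x _
    induction x using TensorProduct.induction_on with
    | zero => exact zero_mem _
    | add x y hx hy => exact add_mem (hx trivial) (hy trivial)
    | tmul c y =>
      have hsy : s • y ∈ U := by
        rw [← Submodule.Quotient.mk_eq_zero, Submodule.Quotient.mk_smul]
        exact Module.mem_annihilator.1 hs _
      have h1 : c ⊗ₜ[A] y = (c * (algebraMap A q.ResidueField s)⁻¹) • ((1 : q.ResidueField) ⊗ₜ[A] (s • y)) := by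
        rw [TensorProduct.tmul_smul, TensorProduct.smul_tmul', TensorProduct.smul_tmul', Algebra.smul_def s,
          smul_eq_mul, mul_one, mul_assoc, inv_mul_cancel₀ hsq, mul_one]
      rw [h1]
      refine Submodule.smul_mem _ _ ?_
      revert hsy
      generalize s • y = w
      intro hsy
      induction hsy using Submodule.span_induction with
      | mem z hz =>
        obtain ⟨i, rfl⟩ := hz
        exact Submodule.subset_span ⟨i, rfl⟩
      | zero => simp
      | add a b _ _ ha hb => rw [tmul_add]; exact add_mem ha hb
      | smul a z _ hz => rw [tmul_smul]; exact Submodule.smul_of_tower_mem _ a hz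
  rw [← hcard, ← finrank_top q.ResidueField, ← hspan]
  exact finrank_range_le_card _

variable (k : Type u) [Field k] (A : Type u) [CommRing A] [Algebra k A] [Algebra.FiniteType k A]

/-- At a prime `q` the fibre of `Ω` has dimension at least `dim A / q`. -/
theorem dim_le_finrank_fibre (q : Ideal A) [q.IsPrime] (n : ℕ) (hn : (n : WithBot ℕ∞) ≤ ringKrullDim (A ⧸ q)) :
    n ≤ Module.finrank q.ResidueField (q.ResidueField ⊗[A] Ω[A⁄k]) := by
  obtain ⟨d, hd, hdim, -⟩ := Groth.Agent.S2680.result k (A ⧸ q)
  have hnd : n ≤ d := by rw [hdim] at hn; exact_mod_cast hn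
  let e : FractionRing (A ⧸ q) ≃ₐ[k] q.ResidueField :=
    ((IsLocalization.algEquiv (nonZeroDivisors (A ⧸ q)) (FractionRing (A ⧸ q)) q.ResidueField).restrictScalars k)
  rw [e.trdeg_eq] at hd
  haveI : Algebra.EssFiniteType k q.ResidueField := Algebra.EssFiniteType.comp k A _
  have h := (Groth.Agent.S4525.result (k := k) (K := k) (L := q.ResidueField)).2.2
  rw [hd, Cardinal.toNat_natCast] at h
  haveI : Algebra.FormallyUnramified A (A ⧸ q) := .quotient _
  haveI : Algebra.FormallyUnramified (A ⧸ q) q.ResidueField :=
    Algebra.FormallyUnramified.of_isLocalization (nonZeroDivisors (A ⧸ q))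
  haveI : Algebra.FormallyUnramified A q.ResidueField := Algebra.FormallyUnramified.comp A (A ⧸ q) _
  have hsurj : Function.Surjective (KaehlerDifferential.mapBaseChange k A q.ResidueField) := fun x =>
    ((KaehlerDifferential.exact_mapBaseChange_map k A q.ResidueField) x).1 (Subsingleton.elim _ _)
  haveI : Module.Finite A Ω[A⁄k] := inferInstance
  have hle : Module.finrank q.ResidueField Ω[q.ResidueField⁄k] ≤
      Module.finrank q.ResidueField (q.ResidueField ⊗[A] Ω[A⁄k]) :=
    LinearMap.finrank_le_finrank_of_surjective hsurj
  omega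

end Misc3Sm
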