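import Mathlib
import Groth.Agent.S11311
import Groth.Agent.S2680
import Groth.Agent.Misc3Sm.Fibres
import Groth.Agent.Misc3Bertini.Ring

/-!
# Regularity and the module of differentials over an algebraically closed field

Helper library (no milestone statements here).
-/

universe u

open TensorProduct

namespace Misc3Sm

variable (k : Type u) [Field k] {A : Type u} [CommRing A] [Algebra k A] [Algebra.FiniteType k A]

theorem bijective_residue [IsAlgClosed k] (m : Ideal A) [m.IsMaximal] :
    Function.Bijective (algebraMap k (IsLocalRing.ResidueField (Localization.AtPrime m))) := by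
  show Function.Bijective (algebraMap k m.ResidueField)
  haveI : Algebra.FiniteType k m.ResidueField := by
    have hsurj : Function.Surjective (IsScalarTower.toAlgHom k A m.ResidueField) :=
      m.bijective_algebraMap_quotient_residueField.surjective.comp Ideal.Quotient.mk_surjective
    exact Algebra.FiniteType.of_surjective _ hsurj
  haveI : Module.Finite k m.ResidueField := finite_of_finite_type_of_isJacobsonRing k m.ResidueField
  exact IsAlgClosed.algebraMap_bijective_of_isIntegral

include k in
theorem ringKrullDim_localization_eq (hirr : (nilradical A).IsPrime) (n : ℕ) (hn : ringKrullDim A = n)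
    (m : Ideal A) [hm : m.IsMaximal] : ringKrullDim (Localization.AtPrime m) = n := by
  let N := nilradical A
  haveI := hirr
  let f := Ideal.Quotient.mk N
  let e : PrimeSpectrum (A ⧸ N) ≃o PrimeSpectrum A :=
    { toEquiv :=
        { toFun := PrimeSpectrum.comap f
          invFun := fun p => ⟨p.asIdeal.map f, Ideal.map_isPrime_of_surjective Ideal.Quotient.mk_surjective
            (by rw [Ideal.mk_ker]; exact nilradical_le_prime p.asIdeal)⟩
          left_inv := fun p => PrimeSpectrum.ext (Ideal.map_comap_of_surjective f Ideal.Quotient.mk_surjective p.asIdeal)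
          right_inv := fun p => PrimeSpectrum.ext (by
            show (p.asIdeal.map f).comap f = p.asIdeal
            rw [Ideal.comap_map_of_surjective f Ideal.Quotient.mk_surjective, ← RingHom.ker_eq_comap_bot, Ideal.mk_ker]
            exact sup_eq_left.2 (nilradical_le_prime p.asIdeal)) }
      map_rel_iff' := by
        intro p q
        exact Ideal.comap_le_comap_iff_of_surjective f Ideal.Quotient.mk_surjective _ _ }
  obtain ⟨d, -, hdim, hloc⟩ := Groth.Agent.S2680.result k (A ⧸ N)
  have hdn : d = n := by
    have h1 : ringKrullDim (A ⧸ N) = ringKrullDim A := Order.krullDim_eq_of_orderIso e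
    rw [hdim, hn] at h1
    exact_mod_cast h1
  haveI : (m.map f).IsMaximal := by
    refine (Ideal.map_eq_top_or_isMaximal_of_surjective f Ideal.Quotient.mk_surjective hm).resolve_left fun h => ?_
    exact (e.symm ⟨m, hm.isPrime⟩).isPrime.ne_top h
  have h2 := hloc (m.map f)
  rw [IsLocalization.AtPrime.ringKrullDim_eq_height (m.map f) (Localization.AtPrime (m.map f))] at h2
  rw [IsLocalization.AtPrime.ringKrullDim_eq_height m (Localization.AtPrime m), ← hdn, ← h2]
  have he : e.symm ⟨m, hm.isPrime⟩ = ⟨m.map f, Ideal.IsMaximal.isPrime ‹_›⟩ := rfl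
  have h3 := Order.height_orderIso e.symm ⟨m, hm.isPrime⟩
  rw [he, ← PrimeSpectrum.height_eq_orderHeight, ← PrimeSpectrum.height_eq_orderHeight] at h3
  exact congrArg (fun x : ℕ∞ => (x : WithBot ℕ∞)) h3.symm

/-- The differentials of the local ring at a prime are finite, and their fibre is the fibre of `Ω`. -/
theorem finrank_fibre_eq_of_free (m : Ideal A) [m.IsPrime]
    [Module.Free (Localization.AtPrime m) Ω[Localization.AtPrime m⁄k]] :
    Module.finrank m.ResidueField (m.ResidueField ⊗[A] Ω[A⁄k]) =
      Module.finrank (Localization.AtPrime m) Ω[Localization.AtPrime m⁄k] := by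
  haveI : Algebra.FormallyEtale A (Localization.AtPrime m) := Algebra.FormallyEtale.of_isLocalization m.primeCompl
  let e : Localization.AtPrime m ⊗[A] Ω[A⁄k] ≃ₗ[Localization.AtPrime m] Ω[Localization.AtPrime m⁄k] :=
    KaehlerDifferential.tensorKaehlerEquivOfFormallyEtale k A (Localization.AtPrime m)
  haveI : Module.Free (Localization.AtPrime m) (Localization.AtPrime m ⊗[A] Ω[A⁄k]) := Module.Free.of_equiv e.symm
  rw [← e.finrank_eq, ← Module.finrank_baseChange (R := m.ResidueField) (S := Localization.AtPrime m)
      (M' := Localization.AtPrime m ⊗[A] Ω[A⁄k])]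
  exact (AlgebraTensorModule.cancelBaseChange A (Localization.AtPrime m) m.ResidueField m.ResidueField Ω[A⁄k]).finrank_eq.symm

theorem free_localization_kaehler [Module.Projective A Ω[A⁄k]] (m : Ideal A) [m.IsPrime] :
    Module.Free (Localization.AtPrime m) Ω[Localization.AtPrime m⁄k] := by
  haveI : Algebra.FormallyEtale A (Localization.AtPrime m) := Algebra.FormallyEtale.of_isLocalization m.primeCompl
  let e : Localization.AtPrime m ⊗[A] Ω[A⁄k] ≃ₗ[Localization.AtPrime m] Ω[Localization.AtPrime m⁄k] :=
    KaehlerDifferential.tensorKaehlerEquivOfFormallyEtale k A (Localization.AtPrime m)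
  haveI : Module.Free (Localization.AtPrime m) (Localization.AtPrime m ⊗[A] Ω[A⁄k]) := Module.free_of_flat_of_isLocalRing
  exact Module.Free.of_equiv e

/-- Regularity at the maximal ideals gives regularity everywhere (perfect base field). -/
theorem isRegularRing_of_maximal [PerfectField k]
    (h : ∀ (m : Ideal A) [m.IsMaximal], IsRegularLocalRing (Localization.AtPrime m)) :
    IsRegularRing A := by
  haveI : IsNoetherianRing A := Algebra.FiniteType.isNoetherianRing k A
  have : Algebra.FinitePresentation k A := Algebra.FinitePresentation.of_finiteType.mp ‹_›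
  refine isRegularRing_iff.mpr fun p hp => ?_
  obtain ⟨m, hm, hpm⟩ := Ideal.exists_le_maximal p hp.ne_top
  haveI := h m
  haveI : Algebra.EssFiniteType k m.ResidueField := Algebra.EssFiniteType.comp k A _
  haveI : Algebra.FormallySmooth k m.ResidueField := Algebra.FormallySmooth.of_perfectField
  have hmem : (⟨m, hm.isPrime⟩ : PrimeSpectrum A) ∈ Algebra.smoothLocus k A :=
    Groth.Calg4.isSmoothAt_of_isRegularLocalRing (k := k) m
  have hp' : (⟨p, hp⟩ : PrimeSpectrum A) ∈ Algebra.smoothLocus k A :=
    ((PrimeSpectrum.le_iff_specializes ⟨p, hp⟩ ⟨m, hm.isPrime⟩).1 hpm).mem_open Algebra.isOpen_smoothLocus hmem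
  haveI : Algebra.IsSmoothAt k p := hp'
  exact Groth.Calg4.isRegularLocalRing_of_isSmoothAt (k := k) p

end Misc3Sm
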